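import Cfsg.Prelude.Def_DegreeGraph
import Cfsg.Agent.Lib.BlocksChars5.Restrict
import Cfsg.Agent.Lib.Clifford.Linear
import Cfsg.Agent.Lib.Characters.Linear

/-!
# Relative degrees over a normal subgroup inside the derived group

Multiplication of constituents by linear characters of the normal subgroup, and the determinant
constraints on the degrees lying over invariant linear characters.
-/

set_option autoImplicit false
set_option linter.unusedSectionVars false

namespace Cfsg.Agent.Lib.RelDegrees87.Basic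

open Cfsg.Agent.Lib.Characters.Basic Cfsg.Agent.Lib.Induced.Basic Cfsg.Agent.Lib.BlocksChars5.Basic
open Cfsg.Agent.Lib.Clifford.Basic Cfsg.Agent.Lib.BlocksChars5
open scoped ComplexConjugate

universe u

/-! Operations on linear characters, read off the commutative group structure. -/

noncomputable local instance (priority := high) homOne {N : Type*} [Group N] : One (N →* ℂˣ) :=
  (MonoidHom.instCommGroup (M := N) (N := ℂˣ)).toGroup.toDivInvMonoid.toMonoid.toMulOneClass.toMulOne.toOne
noncomputable local instance (priority := high) homMul {N : Type*} [Group N] : Mul (N →* ℂˣ) :=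
  (MonoidHom.instCommGroup (M := N) (N := ℂˣ)).toGroup.toDivInvMonoid.toMonoid.toMulOneClass.toMulOne.toMul
noncomputable local instance (priority := high) homPow {N : Type*} [Group N] : Pow (N →* ℂˣ) ℕ :=
  (MonoidHom.instCommGroup (M := N) (N := ℂˣ)).toGroup.toDivInvMonoid.toMonoid.toNPow.toPow
noncomputable local instance (priority := high) homInv {N : Type*} [Group N] : Inv (N →* ℂˣ) :=
  (MonoidHom.instCommGroup (M := N) (N := ℂˣ)).toGroup.toDivInvMonoid.toInv

variable {G : Type u} [Group G] (N : Subgroup G) [hN : N.Normal]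

/-- Conjugation of linear characters. -/
noncomputable def cH (g : G) : (N →* ℂˣ) →* (N →* ℂˣ) where
  toFun μ := μ.comp (MulAut.conjNormal g).toMonoidHom
  map_one' := rfl
  map_mul' _ _ := rfl

theorem cH_apply (g : G) (μ : N →* ℂˣ) (n : N) :
    cH N g μ n = μ ⟨g * n * g⁻¹, hN.conj_mem (n : G) n.2 g⟩ := rfl

theorem cH_one (μ : N →* ℂˣ) : cH N 1 μ = μ :=
  MonoidHom.ext fun n => congrArg μ (Subtype.ext (by simp))

theorem cH_mul (g h : G) (μ : N →* ℂˣ) : cH N (g * h) μ = cH N h (cH N g μ) :=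
  MonoidHom.ext fun n => congrArg μ (Subtype.ext (by simp [mul_assoc]))

/-- The action on linear characters. -/
@[reducible] noncomputable def act : MulAction G (N →* ℂˣ) where
  smul g μ := cH N g⁻¹ μ
  one_smul μ := by show cH N (1 : G)⁻¹ μ = μ; rw [inv_one, cH_one]
  mul_smul g h μ := by
    show cH N (g * h)⁻¹ μ = cH N g⁻¹ (cH N h⁻¹ μ)
    rw [mul_inv_rev, cH_mul]

/-- A linear character as a function. -/
def L (μ : N →* ℂˣ) : N → ℂ := fun n => (μ n : ℂ)

theorem L_apply (μ : N →* ℂˣ) (n : N) : L N μ n = (μ n : ℂ) := rfl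

theorem L_mul (μ ν : N →* ℂˣ) : L N (μ * ν) = L N μ * L N ν := rfl

theorem L_one : L N (1 : N →* ℂˣ) = 1 := rfl

theorem L_injective : Function.Injective (L N) := fun _ _ h =>
  MonoidHom.ext fun n => Units.ext (congrFun h n)

theorem conjC_L (g : G) (μ : N →* ℂˣ) : conjC N g (L N μ) = L N (cH N g μ) := rfl

theorem conjC_mul_fun (g : G) (f f' : N → ℂ) :
    conjC N g (f * f') = conjC N g f * conjC N g f' := rfl

theorem inertia_L (μ : N →* ℂˣ) {g : G} : g ∈ inertia N (L N μ) ↔ cH N g μ = μ := by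
  rw [mem_inertia, conjC_L]
  exact (L_injective N).eq_iff

variable [Finite G]

/-- A linear character as an irreducible character. -/
noncomputable def lin (μ : N →* ℂˣ) : Cfsg.IrrCharacter N :=
  Cfsg.Agent.Lib.Characters.Linear.linChar μ

theorem coe_lin (μ : N →* ℂˣ) : (lin N μ : N → ℂ) = L N μ := rfl

theorem deg_lin (μ : N →* ℂˣ) : Cfsg.charDegree (lin N μ : N → ℂ) = 1 := by
  simp [Cfsg.charDegree, coe_lin, L]

/-- The product of an irreducible character of `N` with a linear one. -/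
noncomputable def mulL (μ : N →* ℂˣ) (φ : Cfsg.IrrCharacter N) : Cfsg.IrrCharacter N :=
  ⟨L N μ * (φ : N → ℂ), Cfsg.Agent.Lib.Characters.Linear.isIrrCharacter_linear_mul
    (isCharacter_irr (lin N μ)) (by simp [L]) φ.2⟩

theorem coe_mulL (μ : N →* ℂˣ) (φ : Cfsg.IrrCharacter N) :
    (mulL N μ φ : N → ℂ) = L N μ * (φ : N → ℂ) := rfl

theorem deg_mulL (μ : N →* ℂˣ) (φ : Cfsg.IrrCharacter N) :
    Cfsg.charDegree (mulL N μ φ : N → ℂ) = Cfsg.charDegree (φ : N → ℂ) :=
  Basic.charDegree_congr (by simp [coe_mulL, L])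

theorem mulL_mul (μ ν : N →* ℂˣ) (φ : Cfsg.IrrCharacter N) :
    mulL N (μ * ν) φ = mulL N μ (mulL N ν φ) :=
  Subtype.ext (mul_assoc (L N μ) (L N ν) (φ : N → ℂ))

theorem mulL_one (φ : Cfsg.IrrCharacter N) : mulL N 1 φ = φ :=
  Subtype.ext (one_mul (φ : N → ℂ))

/-- Multiplication by linear characters of order prime to the degree is free. -/
theorem eq_one_of_mulL {μ : N →* ℂˣ} {φ : Cfsg.IrrCharacter N} {r : ℕ}
    (hμ : μ ^ r = 1) (hr : r.Coprime (Cfsg.charDegree (φ : N → ℂ)))
    (h : mulL N μ φ = φ) : μ = 1 := by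
  obtain ⟨k, ρ, hρ, hc⟩ := φ.2
  haveI := hρ
  let σ : Representation ℂ N (Fin k → ℂ) :=
    { toFun := fun n => (μ n : ℂ) • ρ n
      map_one' := by simp
      map_mul' := fun a b => by simp [smul_smul, mul_comm] }
  have hσ : σ.character = ρ.character := funext fun n => by
    show LinearMap.trace ℂ _ ((μ n : ℂ) • ρ n) = _
    rw [map_smul, smul_eq_mul]
    have h1 := congrFun (congrArg Subtype.val h) n
    change (L N μ n) * (φ : N → ℂ) n = (φ : N → ℂ) n at h1
    rw [← hc] at h1
    exact h1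
  have hd : Cfsg.charDegree (φ : N → ℂ) = k := by
    simp [Cfsg.charDegree, ← hc]
  refine MonoidHom.ext fun n => ?_
  have h1 := Clifford.Rep.det_eq_of_char ρ σ hσ n
  change LinearMap.det ((μ n : ℂ) • ρ n) = _ at h1
  rw [LinearMap.det_smul, Module.finrank_fin_fun] at h1
  have h0 : LinearMap.det (ρ n) ≠ 0 := by
    rw [← Clifford.Rep.detHom_apply]; exact Units.ne_zero _
  have h2 : (μ n) ^ k = 1 := Units.ext (by simpa using mul_right_cancel₀ h0 (h1.trans (one_mul _).symm))
  have h3 : (μ n) ^ r = 1 := by rw [← MonoidHom.pow_apply, hμ, MonoidHom.one_apply]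
  exact orderOf_eq_one_iff.mp (Nat.eq_one_of_dvd_coprimes (hd ▸ hr)
    (orderOf_dvd_of_pow_eq_one h3) (orderOf_dvd_of_pow_eq_one h2))

variable [Fintype G] [Fintype N]

/-- `χ` lies over `θ`. -/
def Over (χ : Cfsg.IrrCharacter G) (θ : Cfsg.IrrCharacter N) : Prop :=
  Cfsg.classInner (fun n : N => (χ : G → ℂ) n) (θ : N → ℂ) ≠ 0

/-- Clifford's degree formula in natural numbers. -/
theorem degree_eq {χ : Cfsg.IrrCharacter G} {θ : Cfsg.IrrCharacter N} (h : Over N χ θ) :
    ∃ e : ℕ, 0 < e ∧ Cfsg.classInner (fun n : N => (χ : G → ℂ) n) (θ : N → ℂ) = e ∧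
      Cfsg.charDegree (χ : G → ℂ) =
        e * (inertia N (θ : N → ℂ)).index * Cfsg.charDegree (θ : N → ℂ) := by
  obtain ⟨e, he⟩ := exists_classInner_nat
    (isCharacter_comp N.subtype (isCharacter_irr χ)) (isCharacter_irr θ)
  have he' : Cfsg.classInner (fun n : N => (χ : G → ℂ) n) (θ : N → ℂ) = e := he
  refine ⟨e, Nat.pos_of_ne_zero fun h0 => h (by rw [he', h0, Nat.cast_zero]), he', ?_⟩
  have h1 := clifford_degree N χ.2 θ h
  rw [he', apply_one, apply_one] at h1
  exact_mod_cast h1

theorem exists_over (θ : Cfsg.IrrCharacter N) : ∃ χ : Cfsg.IrrCharacter G, Over N χ θ := by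
  obtain ⟨χ, hχ⟩ := exists_constituent
    (Lib.Induced.Character.isCharacter_indFun N (isCharacter_irr θ)) (fun h => by
      have h1 := congrFun h 1
      rw [indFun_one, Pi.zero_apply, mul_eq_zero] at h1
      exact h1.elim (Nat.cast_ne_zero.mpr Subgroup.index_ne_zero_of_finite)
        (apply_one_ne_zero θ))
  rw [frobenius_reciprocity N _ (isClassFunction_irr χ)] at hχ
  exact ⟨χ, classInner_ne_zero_symm hχ⟩

/-- A character over a nontrivial one does not have `N` in its kernel. -/
theorem mem_rel {χ : Cfsg.IrrCharacter G} {θ : Cfsg.IrrCharacter N} (h : Over N χ θ)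
    (hθ : (θ : N → ℂ) ≠ 1) :
    Cfsg.charDegree (χ : G → ℂ) ∈ Cfsg.relCharDegrees N := by
  refine ⟨χ, ?_, rfl⟩
  by_contra hcon
  push Not at hcon
  apply h
  have e1 : (fun n : N => (χ : G → ℂ) n) = (χ : G → ℂ) 1 • (lin N 1 : N → ℂ) := by
    funext n
    rw [hcon n n.2]
    simp [coe_lin, L]
  rw [e1, classInner_smul_left, classInner_irr_of_ne, mul_zero]
  intro h2
  exact hθ ((congrArg Subtype.val h2).symm.trans (L_one N))

theorem exists_over_not_one {χ : Cfsg.IrrCharacter G}
    (h : ∃ x ∈ N, (χ : G → ℂ) x ≠ (χ : G → ℂ) 1) :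
    ∃ θ : Cfsg.IrrCharacter N, Over N χ θ ∧ (θ : N → ℂ) ≠ 1 := by
  obtain ⟨θ, hθ⟩ := exists_constituent_restrict N χ.2
  refine ⟨θ, hθ, fun h1 => ?_⟩
  obtain ⟨x, hx, hne⟩ := h
  have h2 := restrict_eq_smul N χ.2 θ hθ (fun g => by rw [h1]; rfl)
  have hx' := congrFun h2 ⟨x, hx⟩
  have h1' := congrFun h2 1
  simp only [Pi.smul_apply, h1, Pi.one_apply, OneMemClass.coe_one] at hx' h1'
  exact hne (hx'.trans h1'.symm)

/-- Over an invariant linear character, the degree is a multiple of its order. -/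
theorem pow_degree_eq_one (hNG : N ≤ commutator G) {μ : N →* ℂˣ}
    (hinv : ∀ g, cH N g μ = μ) {χ : Cfsg.IrrCharacter G} (h : Over N χ (lin N μ)) :
    μ ^ Cfsg.charDegree (χ : G → ℂ) = 1 := by
  have hres := restrict_eq_smul N χ.2 (lin N μ) h
    (fun g => by rw [coe_lin, conjC_L, hinv])
  set c := Cfsg.classInner (fun n : N => (χ : G → ℂ) n) (lin N μ : N → ℂ)
  obtain ⟨k, ρ, hρ, hχ⟩ := χ.2
  haveI := hρ
  have hd : Cfsg.charDegree (χ : G → ℂ) = k := by simp [Cfsg.charDegree, ← hχ]
  have hc : c = k := by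
    have h1 := congrFun hres 1
    simp only [Pi.smul_apply, coe_lin, L_apply, map_one, Units.val_one, smul_eq_mul, mul_one,
      OneMemClass.coe_one, ← hχ, Representation.char_one, Module.finrank_fin_fun] at h1
    exact h1.symm
  have hk : (k : ℂ) ≠ 0 := by
    rw [← hd, ← apply_one χ]
    exact apply_one_ne_zero χ
  refine MonoidHom.ext fun n => Units.ext ?_
  have hn : ρ.character (n : G) = (k : ℂ) * (μ n : ℂ) := by
    rw [← hc, hχ]
    exact congrFun hres n
  have hnorm : ‖ρ.character (n : G)‖ = (Module.finrank ℂ (Fin k → ℂ) : ℝ) := by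
    rw [hn, norm_mul, Complex.norm_natCast, Module.finrank_fin_fun,
      Complex.norm_eq_one_of_pow_eq_one (n := Nat.card N) ?_ Nat.card_pos.ne', mul_one]
    rw [← Units.val_pow_eq_pow_val, ← map_pow, pow_card_eq_one', map_one, Units.val_one]
  obtain ⟨ω, hω⟩ := (Characters.Diag.norm_char_eq_finrank_iff ρ (n : G)).mp hnorm
  have hωμ : ω = (μ n : ℂ) := by
    have h2 : ρ.character (n : G) = ω * (k : ℂ) := by
      simp [Representation.character, hω, LinearMap.trace_id]
    rw [hn, mul_comm ω] at h2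
    exact (mul_left_cancel₀ hk h2).symm
  have hdet : Clifford.Rep.detHom ρ (n : G) = 1 :=
    MonoidHom.mem_ker.mp (Abelianization.commutator_subset_ker (Clifford.Rep.detHom ρ) (hNG n.2))
  have h3 := Clifford.Rep.detHom_apply ρ (n : G)
  rw [hdet, hω, LinearMap.det_smul, Module.finrank_fin_fun, LinearMap.det_id, mul_one, hωμ] at h3
  rw [hd]
  simpa using h3.symm

/-- The multiplicity of an invariant linear character in any character is a multiple of its
order. -/
theorem pow_inner_eq_one (hNG : N ≤ commutator G) {μ : N →* ℂˣ}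
    (hinv : ∀ g, cH N g μ = μ) {Θ : G → ℂ} (hΘ : Cfsg.IsCharacter G Θ) :
    ∀ m : ℕ, Cfsg.classInner (fun n : N => Θ n) (L N μ) = m → μ ^ m = 1 := by
  refine character_induction (G := G) (P := fun Θ => ∀ m : ℕ,
    Cfsg.classInner (fun n : N => Θ n) (L N μ) = m → μ ^ m = 1) ?_ ?_ hΘ
  · intro m hm
    have : Cfsg.classInner (0 : N → ℂ) (L N μ) = m := hm
    rw [classInner_zero_left] at this
    have : m = 0 := by exact_mod_cast this.symm
    rw [this]; exact pow_zero μ
  · intro χ ψ hψ ih m hm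
    obtain ⟨j, hj⟩ := exists_classInner_nat
      (isCharacter_comp N.subtype hψ) (isCharacter_irr (lin N μ))
    obtain ⟨i, hi⟩ := exists_classInner_nat
      (isCharacter_comp N.subtype (isCharacter_irr χ)) (isCharacter_irr (lin N μ))
    have hsum : Cfsg.classInner (fun n : N => ((χ : G → ℂ) + ψ) n) (L N μ) =
        Cfsg.classInner (fun n : N => (χ : G → ℂ) n) (L N μ) +
          Cfsg.classInner (fun n : N => ψ n) (L N μ) :=
      classInner_add_left (fun n : N => (χ : G → ℂ) n) (fun n : N => ψ n) _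
    have hi' : Cfsg.classInner (fun n : N => (χ : G → ℂ) n) (L N μ) = i := hi
    have hj' : Cfsg.classInner (fun n : N => ψ n) (L N μ) = j := hj
    rw [hm, hi', hj'] at hsum
    have hmij : m = i + j := by exact_mod_cast hsum
    rw [hmij]
    refine (pow_add μ i j).trans ?_
    rw [ih j hj']
    refine (mul_one (μ ^ i)).trans ?_
    rcases Nat.eq_zero_or_pos i with h0 | h0
    · rw [h0]; exact pow_zero μ
    · have hov : Over N χ (lin N μ) := by
        show Cfsg.classInner _ _ ≠ 0
        rw [coe_lin, hi']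
        exact Nat.cast_ne_zero.mpr h0.ne'
      obtain ⟨e, -, he, hd⟩ := degree_eq N hov
      rw [coe_lin, hi', Nat.cast_inj] at he
      have htop : inertia N (lin N μ : N → ℂ) = ⊤ :=
        eq_top_iff.mpr fun g _ => (inertia_L N μ).mpr (hinv g)
      rw [htop, Subgroup.index_top, deg_lin, mul_one, mul_one, ← he] at hd
      rw [← hd]
      exact pow_degree_eq_one N hNG hinv hov

/-- The key multiplicity: `χ` over `μ φ` and `ψ` over `φ`, with `μ` invariant. -/
theorem pow_mul_eq_one (hNG : N ≤ commutator G) {μ : N →* ℂˣ}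
    (hinv : ∀ g, cH N g μ = μ) {φ : Cfsg.IrrCharacter N} {χ ψ : Cfsg.IrrCharacter G}
    {e e' : ℕ} (he : Cfsg.classInner (fun n : N => (ψ : G → ℂ) n) (φ : N → ℂ) = e)
    (hψ : Over N ψ φ)
    (he' : Cfsg.classInner (fun n : N => (χ : G → ℂ) n) (mulL N μ φ : N → ℂ) = e') :
    μ ^ (e' * e * (inertia N (φ : N → ℂ)).index) = 1 := by
  refine pow_inner_eq_one N hNG hinv
    (isCharacter_mul (isCharacter_irr χ) (isCharacter_conj (isCharacter_irr ψ))) _ ?_
  have h1 : Cfsg.classInner
      (fun n : N => ((χ : G → ℂ) * fun g => conj ((ψ : G → ℂ) g)) n) (L N μ) =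
      Cfsg.classInner (fun n : N => (χ : G → ℂ) n)
        (L N μ * fun n : N => (ψ : G → ℂ) n) := by
    simp only [Cfsg.classInner, Pi.mul_apply, map_mul]
    congr 1
    exact Finset.sum_congr rfl fun n _ => by ring
  rw [h1, clifford N ψ.2 φ hψ, he, mul_smul_comm, classInner_smul_right, Finset.mul_sum,
    classInner_sum_right]
  have h2 : ∀ x : G, Cfsg.classInner (fun n : N => (χ : G → ℂ) n)
      (L N μ * conjC N x (φ : N → ℂ)) = (e' : ℂ) := fun x => by
    have h3 : L N μ * conjC N x (φ : N → ℂ) = conjC N x (mulL N μ φ : N → ℂ) := by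
      rw [coe_mulL, conjC_mul_fun, conjC_L, hinv]
    rw [h3, classInner_restrict_conjC N (isClassFunction_irr χ), he']
  simp only [h2, Finset.sum_const, Finset.card_univ, nsmul_eq_mul, map_div₀, map_natCast]
  have hT : (Nat.card (inertia N (φ : N → ℂ)) : ℂ) ≠ 0 := Nat.cast_ne_zero.mpr Nat.card_pos.ne'
  have hG : ((Fintype.card G : ℕ) : ℂ) = (inertia N (φ : N → ℂ)).index *
      (Nat.card (inertia N (φ : N → ℂ)) : ℂ) := by
    rw [← Nat.cast_mul, Subgroup.index_mul_card, Nat.card_eq_fintype_card]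
  rw [hG]
  push_cast
  field_simp

end Cfsg.Agent.Lib.RelDegrees87.Basic
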