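import Cfsg.Agent.Lib.RelDegrees87.Basic

/-!
# The relative degree graph has at most two components

For a prime `r` dividing `|N : N'|` the degrees prime to `r` lie in one component (as do the
degrees divisible by `r`).
-/

set_option autoImplicit false
set_option linter.unusedSectionVars false

namespace Cfsg.Agent.Lib.RelDegrees87.Main

open Cfsg.Agent.Lib.Characters.Basic Cfsg.Agent.Lib.RelDegrees87.Basic
open Cfsg.Agent.Lib.Clifford.Basic Cfsg.Agent.Lib.BlocksChars5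

universe u

/-! Operations on linear characters, read off the commutative group structure. -/

noncomputable local instance (priority := high) homOne {N : Type*} [Group N] : One (N →* ℂˣ) :=
  (MonoidHom.instCommGroup (M := N) (N := ℂˣ)).toGroup.toDivInvMonoid.toMonoid.toMulOneClass.toMulOne.toOne
noncomputable local instance (priority := high) homMul {N : Type*} [Group N] : Mul (N →* ℂˣ) :=
  (MonoidHom.instCommGroup (M := N) (N := ℂˣ)).toGroup.toDivInvMonoid.toMonoid.toMulOneClass.toMulOne.toMul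
noncomputable local instance (priority := high) homPow {N : Type*} [Group N] : Pow (N →* ℂˣ) ℕ :=
  (MonoidHom.instCommGroup (M := N) (N := ℂˣ)).toGroup.toDivInvMonoid.toMonoid.toNPow.toPow
noncomputable local instance (priority := high) homInv {N : Type*} [Group N] : Inv (N →* ℂˣ) :=
  (MonoidHom.instCommGroup (M := N) (N := ℂˣ)).toGroup.toDivInvMonoid.toInv

variable {G : Type u} [Group G] [Finite G] [Fintype G] (N : Subgroup G) [hN : N.Normal] [Fintype N]

/-- The length of the orbit of a linear character. -/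
noncomputable def len (μ : N →* ℂˣ) : ℕ := (inertia N (L N μ)).index

/-- Being in one component of the relative degree graph. -/
def Conn (a b : ℕ) : Prop :=
  ∃ (ha : a ∈ Cfsg.relCharDegrees N) (hb : b ∈ Cfsg.relCharDegrees N),
    (Cfsg.commonDivisorGraph.induce (Cfsg.relCharDegrees N)).Reachable ⟨a, ha⟩ ⟨b, hb⟩

theorem conn_trans {a b c : ℕ} (h : Conn N a b) (h' : Conn N b c) : Conn N a c := by
  obtain ⟨ha, hb, h1⟩ := h
  obtain ⟨hb', hc, h2⟩ := h'
  exact ⟨ha, hc, h1.trans h2⟩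

theorem conn_symm {a b : ℕ} (h : Conn N a b) : Conn N b a := by
  obtain ⟨ha, hb, h1⟩ := h
  exact ⟨hb, ha, h1.symm⟩

theorem pos_of_mem {a : ℕ} (ha : a ∈ Cfsg.relCharDegrees N) : 0 < a := by
  obtain ⟨χ, -, rfl⟩ := ha
  exact Basic.degree_pos χ

theorem conn_of_dvd {a b q : ℕ} (ha : a ∈ Cfsg.relCharDegrees N) (hb : b ∈ Cfsg.relCharDegrees N)
    (hq : 1 < q) (hqa : q ∣ a) (hqb : q ∣ b) : Conn N a b := by
  refine ⟨ha, hb, ?_⟩
  by_cases h : a = b
  · subst h
    exact SimpleGraph.Reachable.refl _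
  · refine SimpleGraph.Adj.reachable ?_
    exact ⟨h, lt_of_lt_of_le hq
      (Nat.le_of_dvd (Nat.gcd_pos_of_pos_left _ (pos_of_mem N ha)) (Nat.dvd_gcd hqa hqb))⟩

theorem index_inertia_of_invariant {θ : N → ℂ} (h : ∀ g, conjC N g θ = θ) :
    (inertia N θ).index = 1 :=
  Subgroup.index_eq_one.mpr (eq_top_iff.mpr fun g _ => h g)

theorem mulL_eq_L {μ ν : N →* ℂˣ} {φ : Cfsg.IrrCharacter N} (h : (φ : N → ℂ) = L N ν) :
    (mulL N μ φ : N → ℂ) = L N (μ * ν) := by rw [coe_mulL, h, Basic.L_mul]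

/-- Any nontrivial character of `N` gives a relative degree, a multiple of its orbit length. -/
theorem exists_degree_over {θ : Cfsg.IrrCharacter N} (hθ : (θ : N → ℂ) ≠ 1) :
    ∃ χ : Cfsg.IrrCharacter G, Over N χ θ ∧
      Cfsg.charDegree (χ : G → ℂ) ∈ Cfsg.relCharDegrees N ∧
      (inertia N (θ : N → ℂ)).index * Cfsg.charDegree (θ : N → ℂ) ∣
        Cfsg.charDegree (χ : G → ℂ) := by
  obtain ⟨χ, hχ⟩ := exists_over N θ
  obtain ⟨e, -, -, hd⟩ := degree_eq N hχ
  exact ⟨χ, hχ, mem_rel N hχ hθ, ⟨e, by rw [hd]; ring⟩⟩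

theorem lin_ne_one {μ : N →* ℂˣ} (h : μ ≠ 1) : (lin N μ : N → ℂ) ≠ 1 :=
  fun h1 => h (L_injective N (h1.trans (L_one N).symm))

/-- A linear constituent is a linear character. -/
theorem exists_eq_L {φ : Cfsg.IrrCharacter N} (h : Cfsg.charDegree (φ : N → ℂ) = 1) :
    ∃ ν : N →* ℂˣ, (φ : N → ℂ) = L N ν :=
  ⟨Cfsg.Agent.Lib.Characters.Linear.degOneHom (isCharacter_irr φ)
    (by rw [Basic.apply_one, h, Nat.cast_one]),
    funext fun n => (Cfsg.Agent.Lib.Characters.Linear.degOneHom_apply _ _ n).symm⟩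

theorem smul_mem_orbit_iff' {X : Type*} [MulAction G X] (g : G) (x y : X) :
    g • y ∈ MulAction.orbit G x ↔ y ∈ MulAction.orbit G x := by
  rw [← MulAction.orbit_eq_iff, MulAction.orbit_smul, MulAction.orbit_eq_iff]

section prime

variable {r : ℕ} [hr : Fact r.Prime] (hNG : N ≤ commutator G)
include hNG

theorem coprime_of_not_dvd {a : ℕ} (h : ¬ r ∣ a) : r.Coprime a :=
  (hr.out.coprime_iff_not_dvd).mpr h

omit hNG in
theorem orderOf_eq {μ : N →* ℂˣ} (hμr : μ ^ r = 1) (hμ : μ ≠ 1) : orderOf μ = r :=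
  orderOf_eq_prime hμr hμ

/-- With an invariant character of order `r` the graph is connected. -/
theorem conn_of_invariant {μ : N →* ℂˣ} (hμr : μ ^ r = 1) (hμ : μ ≠ 1)
    (hinv : ∀ g, cH N g μ = μ) {a b : ℕ} (ha : a ∈ Cfsg.relCharDegrees N)
    (hb : b ∈ Cfsg.relCharDegrees N) : Conn N a b := by
  classical
  suffices key : ∀ c ∈ Cfsg.relCharDegrees N, ∃ d, r ∣ d ∧ Conn N c d by
    obtain ⟨d, hd, h1⟩ := key a ha
    obtain ⟨d', hd', h2⟩ := key b hb
    exact conn_trans N (conn_trans N h1 (conn_of_dvd N h1.2.1 h2.2.1 hr.out.one_lt hd hd'))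
      (conn_symm N h2)
  intro c hc
  by_cases hrc : r ∣ c
  · exact ⟨c, hrc, conn_of_dvd N hc hc hr.out.one_lt hrc hrc⟩
  obtain ⟨χ, hχrel, rfl⟩ := id hc
  obtain ⟨φ, hφ, hφ1⟩ := exists_over_not_one N hχrel
  obtain ⟨e, he0, he, hd⟩ := degree_eq N hφ
  set n := (inertia N (φ : N → ℂ)).index
  set f := Cfsg.charDegree (φ : N → ℂ) with hf
  by_cases hnf : n * f = 1
  · -- an invariant linear constituent
    obtain ⟨hn1, hf1⟩ := mul_eq_one.mp hnf
    obtain ⟨ν, hν⟩ := exists_eq_L N hf1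
    have hνinv : ∀ g, cH N g ν = ν := fun g => by
      have hg : g ∈ inertia N (φ : N → ℂ) := by
        rw [Subgroup.index_eq_one.mp hn1]; trivial
      rw [hν] at hg
      exact (inertia_L N ν).mp hg
    have hνlin : φ = lin N ν := Subtype.ext hν
    have hν1 : ν ≠ 1 := fun h => hφ1 (by rw [hν, h, L_one])
    have hνc : ν ^ Cfsg.charDegree (χ : G → ℂ) = 1 :=
      pow_degree_eq_one N hNG hνinv (hνlin ▸ hφ)
    set o := orderOf ν
    have hoc : o ∣ Cfsg.charDegree (χ : G → ℂ) := orderOf_dvd_of_pow_eq_one hνc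
    have ho : o ≠ 1 := fun h => hν1 (orderOf_eq_one_iff.mp h)
    have hcop : (orderOf μ).Coprime (orderOf ν) := by
      rw [orderOf_eq N hμr hμ]
      exact coprime_of_not_dvd N hNG fun h => hrc (h.trans hoc)
    have hord : orderOf (μ * ν) = r * o := by
      rw [(Commute.all μ ν).orderOf_mul_eq_mul_orderOf_of_coprime hcop, orderOf_eq N hμr hμ]
    have hne : μ * ν ≠ 1 := fun h => by
      rw [h, orderOf_one] at hord
      exact hr.out.ne_one (mul_eq_one.mp hord.symm).1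
    obtain ⟨ψ, hψ, hψD, -⟩ := exists_degree_over N (lin_ne_one N hne)
    have hdvd := orderOf_dvd_of_pow_eq_one
      (pow_degree_eq_one N hNG (fun g => by rw [map_mul, hinv, hνinv]) hψ)
    rw [hord] at hdvd
    refine ⟨_, (dvd_mul_right r o).trans hdvd, conn_of_dvd N hc hψD
      (Nat.minFac_prime ho).one_lt ((Nat.minFac_dvd o).trans hoc)
      ((Nat.minFac_dvd o).trans ((dvd_mul_left o r).trans hdvd))⟩
  · have hne : (mulL N μ φ : N → ℂ) ≠ 1 := fun h1 => by
      apply hnf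
      have hf1 : f = 1 := by
        rw [hf, ← deg_mulL N μ φ, h1]
        simp [Cfsg.charDegree]
      obtain ⟨ν, hν⟩ := exists_eq_L N hf1
      have hμν : ν = μ⁻¹ := by
        exact eq_inv_of_mul_eq_one_right (a := μ)
          (L_injective N ((mulL_eq_L N hν).symm.trans (h1.trans (L_one N).symm)))
      have hn1 : n = 1 := index_inertia_of_invariant N fun g => by
        rw [hν, conjC_L, hμν, map_inv, hinv]
      rw [hn1, hf1]
    obtain ⟨χ', hχ', hD, hdvd⟩ := exists_degree_over N hne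
    obtain ⟨e', he'0, he', hd'⟩ := degree_eq N hχ'
    have hmul := orderOf_dvd_of_pow_eq_one (pow_mul_eq_one N hNG hinv he hφ he')
    rw [orderOf_eq N hμr hμ] at hmul
    have hre' : r ∣ e' := by
      have hren : ¬ r ∣ e * n := fun h => hrc (by rw [hd]; exact h.trans (dvd_mul_right _ f))
      rw [mul_assoc] at hmul
      exact ((hr.out.dvd_mul).mp hmul).resolve_right hren
    have hn' : (inertia N (mulL N μ φ : N → ℂ)).index = n := by
      congr 1
      ext g
      simp only [mem_inertia, coe_mulL, conjC_mul_fun, conjC_L, hinv]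
      refine ⟨fun h => funext fun x => ?_, fun h => by rw [h]⟩
      have := congrFun h x
      simpa [L] using this
    rw [hn', deg_mulL] at hd'
    refine ⟨_, hre'.trans ?_, conn_of_dvd N hc hD (Nat.minFac_prime hnf).one_lt
      ((Nat.minFac_dvd _).trans ⟨e, by rw [hd]; ring⟩)
      ((Nat.minFac_dvd _).trans ⟨e', by rw [hd', ← hf]; ring⟩)⟩
    rw [hd']
    exact (dvd_mul_right e' n).trans (dvd_mul_right _ _)

variable (B : Subgroup (N →* ℂˣ))

/-- An invariant set of characters of order `r` without fixed points, minimal as such. -/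
structure IsGood : Prop where
  ne_bot : B ≠ ⊥
  pow_eq : ∀ μ ∈ B, μ ^ r = 1
  invariant : ∀ g, ∀ μ ∈ B, cH N g μ ∈ B
  no_fixed : ∀ μ ∈ B, (∀ g, cH N g μ = μ) → μ = 1
  minimal : ∀ C : Subgroup (N →* ℂˣ), C ≤ B → C ≠ ⊥ → (∀ g, ∀ μ ∈ C, cH N g μ ∈ C) → C = B

variable {B}

omit hNG in
theorem len_ne_one (hB : IsGood (r := r) N B) {μ : N →* ℂˣ} (hμ : μ ∈ B) (hμ1 : μ ≠ 1) :
    len N μ ≠ 1 := fun h => hμ1 (hB.no_fixed μ hμ fun g => by
  refine (inertia_L N μ).mp ?_
  rw [Subgroup.index_eq_one.mp h]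
  trivial)

/-- All multiples of orbit lengths of `B` are connected. -/
theorem conn_len (hB : IsGood (r := r) N B) {μ ν : N →* ℂˣ} (hμ : μ ∈ B) (hν : ν ∈ B)
    (hμ1 : μ ≠ 1) (hν1 : ν ≠ 1) {d d' : ℕ} (hd : d ∈ Cfsg.relCharDegrees N)
    (hd' : d' ∈ Cfsg.relCharDegrees N) (hμd : len N μ ∣ d) (hνd : len N ν ∣ d') :
    Conn N d d' := by
  classical
  letI := act N
  have hst : ∀ x : N →* ℂˣ, MulAction.stabilizer G x = inertia N (L N x) := fun x => by
    ext g
    rw [MulAction.mem_stabilizer_iff, ← inv_mem_iff (x := g) (H := inertia N (L N x)), inertia_L]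
    rfl
  have hlen : ∀ x : N →* ℂˣ, len N x = (MulAction.orbit G x).ncard := fun x => by
    rw [len, ← hst, MulAction.index_stabilizer]
  by_cases hcop : (len N μ).Coprime (len N ν)
  swap
  · obtain ⟨q, hq, hq1, hq2⟩ := Nat.Prime.not_coprime_iff_dvd.mp hcop
    exact conn_of_dvd N hd hd' hq.one_lt (hq1.trans hμd) (hq2.trans hνd)
  set ρ := μ * ν with hρ
  have hρ1 : ρ ≠ 1 := fun h => by
    have hμν : ν = μ⁻¹ := eq_inv_of_mul_eq_one_right (a := μ) h
    have hsame : len N ν = len N μ := by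
      rw [len, len]
      congr 1
      ext g
      rw [inertia_L, inertia_L, hμν, map_inv]
      exact inv_inj (a := cH N g μ) (b := μ)
    rw [hsame] at hcop
    exact len_ne_one N hB hμ hμ1 ((Nat.coprime_self _).mp hcop)
  obtain ⟨χ, -, hD, hχd⟩ := exists_degree_over N (θ := lin N ρ) (lin_ne_one N hρ1)
  have hχd' : len N ρ ∣ Cfsg.charDegree (χ : G → ℂ) := (dvd_mul_right _ _).trans hχd
  have key : ∀ x y : N →* ℂˣ, x ∈ B → y ∈ B → x ≠ 1 → y ≠ 1 →
      (len N x).Coprime (len N y) → (len N (x * y)).Coprime (len N x) → False := by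
    intro x y hx hy hx1 hy1 hc1 hc2
    have hcount : ∀ z : N →* ℂˣ, (len N x).Coprime (len N z) →
        (MulAction.stabilizer G x ⊓ MulAction.stabilizer G z).index = len N x * len N z := by
      intro z hz
      refine le_antisymm ?_ (Nat.le_of_dvd (Nat.pos_of_ne_zero Subgroup.index_ne_zero_of_finite) ?_)
      · rw [len, len, ← hst, ← hst]
        exact Subgroup.index_inf_le
      · refine hz.mul_dvd_of_dvd_of_dvd ?_ ?_ <;> rw [len, ← hst]
        · exact Subgroup.index_dvd_of_le inf_le_left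
        · exact Subgroup.index_dvd_of_le inf_le_right
    have hsame : MulAction.stabilizer G x ⊓ MulAction.stabilizer G (x * y) =
        MulAction.stabilizer G x ⊓ MulAction.stabilizer G y := by
      ext g
      simp only [Subgroup.mem_inf, MulAction.mem_stabilizer_iff]
      refine and_congr_right fun hg => ?_
      change cH N g⁻¹ x = x at hg
      change cH N g⁻¹ (x * y) = x * y ↔ cH N g⁻¹ y = y
      rw [map_mul, hg, mul_right_inj]
    have hnρ : len N (x * y) = len N y := by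
      have h := hcount _ hc2.symm
      rw [hsame, hcount y hc1] at h
      exact (Nat.eq_of_mul_eq_mul_left (Nat.pos_of_ne_zero (by rw [len]; exact
        Subgroup.index_ne_zero_of_finite)) h).symm
    set T := MulAction.stabilizer G x with hT
    have hTy : (MulAction.orbit T y) = MulAction.orbit G y := by
      refine Set.eq_of_subset_of_ncard_le ?_ (le_of_eq ?_) (Set.toFinite _)
      · rintro z ⟨t, rfl⟩
        exact ⟨(t : G), rfl⟩
      · rw [← MulAction.index_stabilizer T y, ← MulAction.index_stabilizer G y]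
        have h1 := hcount y hc1
        rw [← Subgroup.relIndex_mul_index (inf_le_left : T ⊓ _ ≤ T), mul_comm (len N x),
          show T.index = len N x by rw [len, ← hst], inf_comm, Subgroup.inf_relIndex_right] at h1
        have h2 := Nat.eq_of_mul_eq_mul_right (Nat.pos_of_ne_zero (by rw [len]; exact
          Subgroup.index_ne_zero_of_finite)) h1
        rw [hst y, ← len, ← h2, Subgroup.relIndex]
        rfl
    have hO : (fun z => x * z) '' MulAction.orbit G y = MulAction.orbit G (x * y) := by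
      refine Set.eq_of_subset_of_ncard_le ?_ (le_of_eq ?_) (Set.toFinite _)
      · rintro w ⟨z, hz, rfl⟩
        rw [← hTy] at hz
        obtain ⟨t, rfl⟩ := hz
        refine ⟨(t : G), ?_⟩
        have ht : cH N (t : G)⁻¹ x = x := t.2
        show cH N (t : G)⁻¹ (x * y) = x * cH N (t : G)⁻¹ y
        rw [map_mul, ht]
      · rw [Set.ncard_image_of_injective _ (mul_right_injective x), ← hlen, ← hlen, hnρ]
    -- translations stabilising the orbit of `y`
    let C : Subgroup (N →* ℂˣ) :=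
      { carrier := {b | b ∈ B ∧ ∀ z, z ∈ MulAction.orbit G y ↔ b * z ∈ MulAction.orbit G y}
        one_mem' := ⟨B.one_mem, fun z => by rw [one_mul]⟩
        mul_mem' := fun {a b} ha hb => ⟨B.mul_mem ha.1 hb.1, fun z => by
          rw [hb.2 z, ha.2 (b * z), mul_assoc]⟩
        inv_mem' := fun {a} ha => ⟨B.inv_mem ha.1, fun z => by
          rw [ha.2 (a⁻¹ * z), mul_inv_cancel_left]⟩ }
    have horb : ∀ (g : G) z, cH N g z ∈ MulAction.orbit G y ↔ z ∈ MulAction.orbit G y := by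
      intro g z
      have : cH N g z = g⁻¹ • z := by
        show _ = cH N g⁻¹⁻¹ z
        rw [inv_inv]
      rw [this, smul_mem_orbit_iff']
    have hCinv : ∀ g, ∀ b ∈ C, cH N g b ∈ C := by
      rintro g b ⟨hbB, hb⟩
      refine ⟨hB.invariant g b hbB, fun z => ?_⟩
      have e1 : cH N g (cH N g⁻¹ z) = z := by rw [← cH_mul, inv_mul_cancel, cH_one]
      constructor
      · intro hz
        rw [← e1, ← map_mul, horb]
        exact (hb _).mp (by rwa [horb])
      · intro hz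
        rw [← e1, ← map_mul, horb] at hz
        rw [← horb g⁻¹]
        exact (hb _).mpr hz
    have hmemC : ∀ g : G, x⁻¹ * cH N g x ∈ C := by
      intro g
      refine ⟨B.mul_mem (B.inv_mem hx) (hB.invariant g x hx), fun z => ?_⟩
      have hiff : ∀ w, w ∈ MulAction.orbit G y ↔ x * w ∈ MulAction.orbit G (x * y) := fun w => by
        rw [← hO]
        exact ⟨fun h => ⟨w, h, rfl⟩, fun ⟨w', h, h'⟩ => mul_left_cancel h' ▸ h⟩
      have horb' : ∀ w, cH N g w ∈ MulAction.orbit G (x * y) ↔ w ∈ MulAction.orbit G (x * y) := by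
        intro w
        have : cH N g w = g⁻¹ • w := by
          show _ = cH N g⁻¹⁻¹ w
          rw [inv_inv]
        rw [this, smul_mem_orbit_iff']
      have e1 : cH N g (cH N g⁻¹ z) = z := by rw [← cH_mul, inv_mul_cancel, cH_one]
      have e2 : x * (x⁻¹ * cH N g x * z) = cH N g (x * cH N g⁻¹ z) := by
        rw [map_mul, e1, ← mul_assoc, mul_inv_cancel_left]
      rw [hiff (x⁻¹ * cH N g x * z), e2, horb', ← hiff, horb g⁻¹]
    have hCne : C ≠ ⊥ := fun h => len_ne_one N hB hx hx1 (index_inertia_of_invariant N fun g => by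
      have h1 := hmemC g
      rw [h, Subgroup.mem_bot] at h1
      rw [conjC_L, ← inv_mul_eq_one.mp h1])
    have hCB := hB.minimal C (fun b hb => hb.1) hCne hCinv
    have hy' : y⁻¹ ∈ C := hCB.symm ▸ B.inv_mem hy
    have h1 := (hy'.2 y).mp (MulAction.mem_orbit_self y)
    rw [inv_mul_cancel] at h1
    obtain ⟨g, hg⟩ := h1
    apply hy1
    change cH N g⁻¹ y = 1 at hg
    rw [← cH_one N y, ← inv_mul_cancel g, cH_mul, hg, map_one]
  by_cases h1 : (len N ρ).Coprime (len N μ)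
  · exact (key μ ν hμ hν hμ1 hν1 hcop h1).elim
  by_cases h2 : (len N ρ).Coprime (len N ν)
  · exact (key ν μ hν hμ hν1 hμ1 hcop.symm (by rwa [mul_comm ν μ, ← hρ])).elim
  obtain ⟨q, hq, hq1, hq2⟩ := Nat.Prime.not_coprime_iff_dvd.mp h1
  obtain ⟨q', hq', hq1', hq2'⟩ := Nat.Prime.not_coprime_iff_dvd.mp h2
  exact conn_trans N (conn_of_dvd N hd hD hq.one_lt (hq2.trans hμd) (hq1.trans hχd'))
    (conn_of_dvd N hD hd' hq'.one_lt (hq1'.trans hχd') (hq2'.trans hνd))

/-- The subgroup of elements moving `φ` by a character in `B`. -/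
def cosetStab (hB : IsGood (r := r) N B) (φ : Cfsg.IrrCharacter N) : Subgroup G where
  carrier := {g | ∃ δ ∈ B, conjC N g (φ : N → ℂ) = L N δ * (φ : N → ℂ)}
  one_mem' := ⟨1, B.one_mem, by rw [conjC_one, L_one, one_mul]⟩
  mul_mem' := by
    rintro g h ⟨δ, hδ, hg⟩ ⟨ε, hε, hh⟩
    refine ⟨cH N h δ * ε, B.mul_mem (hB.invariant h δ hδ) hε, ?_⟩
    rw [conjC_mul, hg, conjC_mul_fun, conjC_L, hh, Basic.L_mul, mul_assoc]
  inv_mem' := by
    rintro g ⟨δ, hδ, hg⟩
    refine ⟨(cH N g⁻¹ δ)⁻¹, B.inv_mem (hB.invariant _ δ hδ), ?_⟩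
    have h1 := conjC_inv_conjC N g (φ : N → ℂ)
    rw [hg, conjC_mul_fun, conjC_L] at h1
    rw [← h1, ← mul_assoc, ← Basic.L_mul, inv_mul_cancel, L_one, one_mul, h1]

/-- A degree prime to `r` is connected to a multiple of an orbit length. -/
theorem conn_len_of_not_dvd (hB : IsGood (r := r) N B) {a : ℕ}
    (ha : a ∈ Cfsg.relCharDegrees N) (hra : ¬ r ∣ a) :
    ∃ μ ∈ B, μ ≠ 1 ∧ ∃ d, len N μ ∣ d ∧ Conn N a d := by
  classical
  obtain ⟨χ, hχrel, rfl⟩ := id ha
  obtain ⟨φ, hφ, hφ1⟩ := exists_over_not_one N hχrel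
  obtain ⟨e, he0, he, hd⟩ := degree_eq N hφ
  set n := (inertia N (φ : N → ℂ)).index with hn
  set f := Cfsg.charDegree (φ : N → ℂ) with hf
  have hrn : ¬ r ∣ n := fun h => hra (by
    rw [hd]; exact (h.trans (dvd_mul_left n e)).trans (dvd_mul_right _ f))
  have hfree : ∀ δ ∈ B, L N δ * (φ : N → ℂ) = (φ : N → ℂ) → δ = 1 := fun δ hδ h =>
    eq_one_of_mulL N (hB.pow_eq δ hδ) (coprime_of_not_dvd N hNG fun h' => hra (by
      rw [hd]; exact h'.trans (dvd_mul_left f _))) (Subtype.ext h)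
  have huniq : ∀ δ ∈ B, ∀ ε ∈ B, L N δ * (φ : N → ℂ) = L N ε * (φ : N → ℂ) → δ = ε := by
    intro δ hδ ε hε h
    refine (inv_mul_eq_one.mp (hfree (ε⁻¹ * δ) (B.mul_mem (B.inv_mem hε) hδ) ?_)).symm
    rw [Basic.L_mul, mul_assoc, h, ← mul_assoc, ← Basic.L_mul, inv_mul_cancel, L_one, one_mul]
  set H := inertia N (φ : N → ℂ) with hH
  set K := cosetStab N hB φ with hK
  have hHK : H ≤ K := fun g hg => ⟨1, B.one_mem, by rw [L_one, one_mul]; exact hg⟩
  have hδex : ∀ q : ↥K ⧸ H.subgroupOf K, ∃ δ, δ ∈ B ∧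
      conjC N ((q.out : G))⁻¹ (φ : N → ℂ) = L N δ * (φ : N → ℂ) := fun q => K.inv_mem q.out.2
  choose δ hδB hδ using hδex
  have hδ' : ∀ g : K, conjC N (g : G)⁻¹ (φ : N → ℂ) =
      L N (δ (g : ↥K ⧸ H.subgroupOf K)) * (φ : N → ℂ) := by
    intro g
    obtain ⟨h, hh⟩ := QuotientGroup.mk_out_eq_mul (H.subgroupOf K) g
    rw [← hδ, hh, Subgroup.coe_mul, mul_inv_rev, conjC_mul]
    have : conjC N ((h : K) : G)⁻¹ (φ : N → ℂ) = (φ : N → ℂ) :=
      H.inv_mem (Subgroup.mem_subgroupOf.mp h.2)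
    rw [this]
  letI := Fintype.ofFinite (↥K ⧸ H.subgroupOf K)
  set m := Fintype.card (↥K ⧸ H.subgroupOf K) with hm
  have hmn : m ∣ n := by
    rw [hm, ← Nat.card_eq_fintype_card, hn, ← Subgroup.relIndex_mul_index hHK]
    exact dvd_mul_right _ _
  have hmr : m.Coprime r := (coprime_of_not_dvd N hNG fun h => hrn (h.trans hmn)).symm
  obtain ⟨k, -, hk⟩ := Nat.exists_mul_mod_eq_one_of_coprime hmr hr.out.one_lt
  set c := (∏ q, δ q) ^ k with hc
  have hcB : c ∈ B := B.pow_mem (B.prod_mem fun q _ => hδB q) k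
  have hfix : ∀ g : K, cH N (g : G)⁻¹ c * δ (g : ↥K ⧸ H.subgroupOf K) = c := by
    intro g
    have hP : ∏ q, δ q = cH N (g : G)⁻¹ (∏ q, δ q) * δ (g : ↥K ⧸ H.subgroupOf K) ^ m := by
      conv_lhs => rw [← Equiv.prod_comp (MulAction.toPerm g) δ]
      rw [map_prod, hm, ← Finset.card_univ, ← Finset.prod_const, ← Finset.prod_mul_distrib]
      refine Finset.prod_congr rfl fun q _ => ?_
      induction q using QuotientGroup.induction_on with
      | _ x =>
        refine huniq _ (hδB _) _ (B.mul_mem (hB.invariant _ _ (hδB _)) (hδB _)) ?_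
        rw [Basic.L_mul, mul_assoc, ← hδ' g, MulAction.toPerm_apply, MulAction.Quotient.smul_mk,
          smul_eq_mul, ← hδ', Subgroup.coe_mul, mul_inv_rev, conjC_mul, hδ' x, conjC_mul_fun,
          conjC_L]
    have hδm : δ (g : ↥K ⧸ H.subgroupOf K) ^ (m * k) = δ (g : ↥K ⧸ H.subgroupOf K) := by
      conv_lhs => rw [← Nat.mod_add_div (m * k) r, hk]
      refine (pow_add _ 1 (r * (m * k / r))).trans ?_
      rw [pow_one]
      refine (congrArg _ ((pow_mul _ r (m * k / r)).trans ?_)).trans (mul_one _)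
      rw [hB.pow_eq _ (hδB _)]
      exact one_pow _
    calc cH N (g : G)⁻¹ c * δ (g : ↥K ⧸ H.subgroupOf K)
        = cH N (g : G)⁻¹ c * δ (g : ↥K ⧸ H.subgroupOf K) ^ (m * k) := by rw [hδm]
      _ = (cH N (g : G)⁻¹ (∏ q, δ q) * δ (g : ↥K ⧸ H.subgroupOf K) ^ m) ^ k :=
          (congrArg₂ (· * ·) (map_pow _ _ k) (pow_mul _ m k)).trans (mul_pow _ _ k).symm
      _ = c := by rw [← hP]
  by_cases hc1 : c ≠ 1
  · -- the orbit length of `c` divides that of `φ`
    have hlen : len N c ∣ Cfsg.charDegree (χ : G → ℂ) := by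
      rw [hd]
      refine (Subgroup.index_dvd_of_le fun g hg => ?_).trans
        ((dvd_mul_left n e).trans (dvd_mul_right _ f))
      have hgK : g⁻¹ ∈ K := K.inv_mem (hHK hg)
      have h2 := hfix ⟨g⁻¹, hgK⟩
      simp only [inv_inv] at h2
      have h3 : δ ((⟨g⁻¹, hgK⟩ : K) : ↥K ⧸ H.subgroupOf K) = 1 := by
        refine hfree _ (hδB _) ?_
        rw [← hδ']
        simp only [inv_inv]
        exact hg
      rw [h3, mul_one] at h2
      exact (inertia_L N c).mpr h2
    refine ⟨c, hcB, hc1, _, hlen, conn_of_dvd N ha ha (lt_of_lt_of_le ?_ (Nat.le_of_dvd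
      (pos_of_mem N ha) hlen)) dvd_rfl dvd_rfl⟩
    have := len_ne_one N hB hcB hc1
    have : len N c ≠ 0 := Subgroup.index_ne_zero_of_finite
    omega
  -- now `φ` is fixed by `K`
  push Not at hc1
  have hKH : K ≤ H := fun g hg => by
    have h2 := hfix ⟨g⁻¹, K.inv_mem hg⟩
    rw [hc1, map_one, one_mul] at h2
    have h3 := hδ' ⟨g⁻¹, K.inv_mem hg⟩
    rw [h2, L_one, one_mul] at h3
    simp only [inv_inv] at h3
    exact h3
  obtain ⟨⟨μ, hμB⟩, hμ⟩ := Subgroup.ne_bot_iff_exists_ne_one.mp hB.ne_bot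
  have hμ1' : μ ≠ 1 := fun h => hμ (Subtype.ext h)
  have hsub : inertia N (mulL N μ φ : N → ℂ) ≤ H ⊓ inertia N (L N μ) := fun g hg => by
    rw [mem_inertia, coe_mulL, conjC_mul_fun, conjC_L] at hg
    have hgK : g ∈ K := ⟨(cH N g μ)⁻¹ * μ, B.mul_mem (B.inv_mem (hB.invariant g μ hμB)) hμB, by
      rw [Basic.L_mul, mul_assoc, ← hg, ← mul_assoc, ← Basic.L_mul, inv_mul_cancel, L_one, one_mul]⟩
    have hgH : conjC N g (φ : N → ℂ) = (φ : N → ℂ) := hKH hgK
    rw [hgH] at hg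
    exact ⟨hgH, (inertia_L N μ).mpr (huniq _ (hB.invariant g μ hμB) _ hμB hg)⟩
  have hne : (mulL N μ φ : N → ℂ) ≠ 1 := fun h1 => by
    have htop : inertia N (mulL N μ φ : N → ℂ) = ⊤ := eq_top_iff.mpr fun g _ => by
      rw [mem_inertia, h1]; rfl
    refine hμ1' (hB.no_fixed μ hμB fun g => (inertia_L N μ).mp ?_)
    exact (hsub (htop ▸ Subgroup.mem_top g)).2
  obtain ⟨χ', hχ', hD, hdvd⟩ := exists_degree_over N hne
  rw [deg_mulL, ← hf] at hdvd
  have hn' : n ∣ (inertia N (mulL N μ φ : N → ℂ)).index :=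
    Subgroup.index_dvd_of_le (hsub.trans inf_le_left)
  have hlen' : len N μ ∣ Cfsg.charDegree (χ' : G → ℂ) :=
    ((Subgroup.index_dvd_of_le (hsub.trans inf_le_right)).trans (dvd_mul_right _ f)).trans hdvd
  by_cases hnf : n * f = 1
  swap
  · exact ⟨μ, hμB, hμ1', _, hlen', conn_of_dvd N ha hD (Nat.minFac_prime hnf).one_lt
      ((Nat.minFac_dvd _).trans ⟨e, by rw [hd]; ring⟩)
      ((Nat.minFac_dvd _).trans ((mul_dvd_mul_right hn' f).trans hdvd))⟩
  obtain ⟨hn1, hf1⟩ := mul_eq_one.mp hnf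
  obtain ⟨ν, hν⟩ := exists_eq_L N hf1
  have hνinv : ∀ g, cH N g ν = ν := fun g => by
    have hg : g ∈ H := (Subgroup.index_eq_one.mp hn1 : H = ⊤) ▸ Subgroup.mem_top g
    change conjC N g (φ : N → ℂ) = _ at hg
    rw [hν] at hg
    exact (inertia_L N ν).mp hg
  have hν1 : ν ≠ 1 := fun h => hφ1 (by rw [hν, h, L_one])
  have hνc : ν ^ Cfsg.charDegree (χ : G → ℂ) = 1 :=
    pow_degree_eq_one N hNG hνinv ((Subtype.ext hν : φ = lin N ν) ▸ hφ)
  obtain ⟨ψ, hψ, hψD, hψd⟩ := exists_degree_over N (θ := lin N μ) (lin_ne_one N hμ1')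
  rw [deg_lin, mul_one] at hψd
  obtain ⟨i, -, hi, hψdeg⟩ := degree_eq N hψ
  obtain ⟨j, -, hj, hχdeg⟩ := degree_eq N hχ'
  have heq : mulL N μ φ = mulL N ν (lin N μ) :=
    Subtype.ext (by rw [coe_mulL, coe_mulL, hν, coe_lin, mul_comm])
  have hprod := pow_mul_eq_one N hNG hνinv hi hψ (heq ▸ hj)
  have ho : orderOf ν ≠ 1 := fun h => hν1 (orderOf_eq_one_iff.mp h)
  set q := (orderOf ν).minFac
  have hqp : q.Prime := Nat.minFac_prime ho
  have hqa : q ∣ Cfsg.charDegree (χ : G → ℂ) :=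
    (Nat.minFac_dvd _).trans (orderOf_dvd_of_pow_eq_one hνc)
  have hlast : (inertia N (lin N μ : N → ℂ)).index = len N μ := rfl
  have hq3 := (Nat.minFac_dvd _).trans (orderOf_dvd_of_pow_eq_one hprod)
  rw [hlast, mul_assoc] at hq3
  rcases (hqp.dvd_mul).mp hq3 with h | h
  · exact ⟨μ, hμB, hμ1', _, hlen', conn_of_dvd N ha hD hqp.one_lt hqa
      (by rw [hχdeg]; exact (h.trans (dvd_mul_right j _)).trans (dvd_mul_right _ _))⟩
  · exact ⟨μ, hμB, hμ1', _, hψd, conn_of_dvd N ha hψD hqp.one_lt hqa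
      (by rw [hψdeg, hlast, deg_lin, mul_one]; exact h)⟩

variable (r)

/-- For a prime dividing `|N : N'|`: the graph is connected or there is a good family. -/
theorem connected_or_good (hdvd : r ∣ (commutator N).index) :
    (∀ a ∈ Cfsg.relCharDegrees N, ∀ b ∈ Cfsg.relCharDegrees N, Conn N a b) ∨
      ∃ B : Subgroup (N →* ℂˣ), IsGood (r := r) N B := by
  classical
  haveI : Finite (N →* ℂˣ) :=
    Finite.of_injective (lin N) fun x y h => L_injective N (congrArg Subtype.val h)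
  have hcard : r ∣ Nat.card (N →* ℂˣ) := by
    rwa [Nat.card_congr (Cfsg.Agent.Lib.Characters.Linear.linEquiv N),
      Cfsg.Agent.Lib.Characters.Linear.card_linear]
  obtain ⟨μ₀, hμ₀⟩ := exists_prime_orderOf_dvd_card' r hcard
  by_cases hc : ∃ μ : N →* ℂˣ, μ ^ r = 1 ∧ μ ≠ 1 ∧ ∀ g, cH N g μ = μ
  · obtain ⟨μ, h1, h2, h3⟩ := hc
    exact Or.inl fun a ha b hb => conn_of_invariant N hNG h1 h2 h3 ha hb
  right
  let A : Subgroup (N →* ℂˣ) :=
    { carrier := {μ | μ ^ r = 1}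
      one_mem' := one_pow r
      mul_mem' := fun {x y} hx hy => (mul_pow x y r).trans (by
        change x ^ r = 1 at hx
        change y ^ r = 1 at hy
        rw [hx, hy, one_mul])
      inv_mem' := fun {x} hx => (inv_pow x r).trans ((inv_eq_one (a := x ^ r)).mpr hx) }
  let S : Set (Subgroup (N →* ℂˣ)) := {C | C ≤ A ∧ C ≠ ⊥ ∧ ∀ g, ∀ μ ∈ C, cH N g μ ∈ C}
  have hAS : A ∈ S := by
    refine ⟨le_rfl, fun h => ?_, fun g μ hμ => ?_⟩
    · have : μ₀ ∈ A := (hμ₀ ▸ pow_orderOf_eq_one μ₀ : μ₀ ^ r = 1)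
      rw [h, Subgroup.mem_bot] at this
      rw [this, orderOf_one] at hμ₀
      exact hr.out.ne_one hμ₀.symm
    · change μ ^ r = 1 at hμ
      show (cH N g μ) ^ r = 1
      rw [← map_pow, hμ, map_one]
  obtain ⟨B, hB⟩ := (Set.toFinite S).exists_minimal ⟨A, hAS⟩
  refine ⟨B, hB.prop.2.1, fun μ hμ => hB.prop.1 hμ, hB.prop.2.2, fun μ hμ hfix => ?_,
    fun C hCB hC hinv => le_antisymm hCB (hB.le_of_le ⟨hCB.trans hB.prop.1, hC, hinv⟩ hCB)⟩
  by_contra h1
  exact hc ⟨μ, hB.prop.1 hμ, h1, hfix⟩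

variable {r}

/-- The degrees prime to `r` are in one component. -/
theorem conn_of_not_dvd (hdvd : r ∣ (commutator N).index) {a b : ℕ}
    (ha : a ∈ Cfsg.relCharDegrees N) (hb : b ∈ Cfsg.relCharDegrees N)
    (hra : ¬ r ∣ a) (hrb : ¬ r ∣ b) : Conn N a b := by
  rcases connected_or_good N r hNG hdvd with h | ⟨B, hB⟩
  · exact h a ha b hb
  obtain ⟨μ, hμ, hμ1, d, hd, h1⟩ := conn_len_of_not_dvd N hNG hB ha hra
  obtain ⟨ν, hν, hν1, d', hd', h2⟩ := conn_len_of_not_dvd N hNG hB hb hrb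
  exact conn_trans N (conn_trans N h1
    (conn_len N hNG hB hμ hν hμ1 hν1 h1.2.1 h2.2.1 hd hd')) (conn_symm N h2)

end prime

/-- Degrees prime to two different primes of `|N : N'|` are in one component. -/
theorem conn_of_not_dvd_two (hNG : N ≤ commutator G) {r s : ℕ} [hr : Fact r.Prime]
    [hs : Fact s.Prime] (hr' : r ∣ (commutator N).index) (hs' : s ∣ (commutator N).index)
    {a b : ℕ} (ha : a ∈ Cfsg.relCharDegrees N) (hb : b ∈ Cfsg.relCharDegrees N)
    (hra : ¬ r ∣ a) (hsb : ¬ s ∣ b) : Conn N a b := by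
  rcases eq_or_ne r s with rfl | hrs
  · exact conn_of_not_dvd N hNG hr' ha hb hra hsb
  rcases connected_or_good N r hNG hr' with h | ⟨B, hB⟩
  · exact h a ha b hb
  rcases connected_or_good N s hNG hs' with h | ⟨C, hC⟩
  · exact h a ha b hb
  obtain ⟨μ, hμ, hμ1, d, hd, h1⟩ := conn_len_of_not_dvd N hNG hB ha hra
  obtain ⟨ν, hν, hν1, d', hd', h2⟩ := conn_len_of_not_dvd N hNG hC hb hsb
  have hcop : r.Coprime s := (Nat.coprime_primes hr.out hs.out).mpr hrs
  -- `μ` and `ν` are powers of their product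
  have hle : inertia N (L N (μ * ν)) ≤ inertia N (L N μ) ⊓ inertia N (L N ν) := by
    intro g hg
    rw [inertia_L, map_mul] at hg
    have key : ∀ x y : N →* ℂˣ, ∀ p : ℕ, x ^ p = 1 → p.Coprime (orderOf y) →
        x * y = 1 → x = 1 := by
      intro x y p hx hp hxy
      have hy : orderOf y ∣ p := orderOf_dvd_of_pow_eq_one (by
        rw [eq_inv_of_mul_eq_one_right (a := x) hxy]
        exact (inv_pow x p).trans ((inv_eq_one (a := x ^ p)).mpr hx))
      have : y = 1 := orderOf_eq_one_iff.mp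
        (Nat.eq_one_of_dvd_coprimes hp hy dvd_rfl)
      rwa [this, mul_one] at hxy
    have hX : (cH N g μ * μ⁻¹) ^ r = 1 := by
      refine (mul_pow _ _ r).trans ?_
      rw [← map_pow, hB.pow_eq μ hμ, map_one, one_mul]
      exact (inv_pow μ r).trans ((inv_eq_one (a := μ ^ r)).mpr (hB.pow_eq μ hμ))
    have hY : (cH N g ν * ν⁻¹) ^ s = 1 := by
      refine (mul_pow _ _ s).trans ?_
      rw [← map_pow, hC.pow_eq ν hν, map_one, one_mul]
      exact (inv_pow ν s).trans ((inv_eq_one (a := ν ^ s)).mpr (hC.pow_eq ν hν))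
    have hXY : cH N g μ * μ⁻¹ * (cH N g ν * ν⁻¹) = 1 := by
      refine (mul_mul_mul_comm (cH N g μ) μ⁻¹ (cH N g ν) ν⁻¹).trans ?_
      rw [hg]
      exact (mul_mul_mul_comm μ ν μ⁻¹ ν⁻¹).trans (by rw [mul_inv_cancel, mul_inv_cancel, one_mul])
    have hX1 := key _ _ r hX (Nat.Coprime.coprime_dvd_right (orderOf_dvd_of_pow_eq_one hY) hcop) hXY
    rw [hX1, one_mul] at hXY
    exact ⟨(inertia_L N μ).mpr (mul_inv_eq_one.mp hX1),
      (inertia_L N ν).mpr (mul_inv_eq_one.mp hXY)⟩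
  have hne : μ * ν ≠ 1 := fun h => len_ne_one N hB hμ hμ1 (Subgroup.index_eq_one.mpr
    (eq_top_iff.mpr fun g _ => (hle ((inertia_L N _).mpr (by rw [h, map_one]))).1))
  obtain ⟨χ, -, hD, hdeg⟩ := exists_degree_over N (θ := lin N (μ * ν)) (lin_ne_one N hne)
  have hall := (dvd_mul_right _ _).trans hdeg
  obtain ⟨q, hq, hqμ⟩ := Nat.exists_prime_and_dvd (len_ne_one N hB hμ hμ1)
  obtain ⟨q', hq', hqν⟩ := Nat.exists_prime_and_dvd (len_ne_one N hC hν hν1)
  refine conn_trans N (conn_trans N h1 ?_) (conn_symm N h2)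
  refine conn_trans N (conn_of_dvd N h1.2.1 hD hq.one_lt (hqμ.trans hd)
    (hqμ.trans ((Subgroup.index_dvd_of_le (hle.trans inf_le_left)).trans hall))) ?_
  exact conn_of_dvd N hD h2.2.1 hq'.one_lt
    (hqν.trans ((Subgroup.index_dvd_of_le (hle.trans inf_le_right)).trans hall)) (hqν.trans hd')


end Cfsg.Agent.Lib.RelDegrees87.Main
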